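import Groth.Agent.EdQuotLib.Field

/-!
# Descending a morphism defined over two fields to their intersection
-/

set_option autoImplicit false
set_option linter.style.haveILetI false
set_option maxHeartbeats 400000
universe u

open CategoryTheory CategoryTheory.Limits AlgebraicGeometry TensorProduct

noncomputable section

namespace EdQuotLib

variable {M L A Ω : Type u} [Field M] [Field L] [Field A] [Field Ω]
  [Algebra M L] [Algebra M A] [Algebra M Ω] [Algebra L Ω] [Algebra A Ω]
  [IsScalarTower M L Ω] [IsScalarTower M A Ω]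

/-- Tensors over `L` and over `A` which agree over `Ω` come from the module over `M`. -/
theorem exists_tensor_descent
    (hinter : ∀ (l : L) (a : A), algebraMap L Ω l = algebraMap A Ω a → ∃ m : M, algebraMap M L m = l)
    {R : Type u} [CommRing R] [Algebra M R] (x : L ⊗[M] R) (y : A ⊗[M] R)
    (h : Algebra.TensorProduct.map (IsScalarTower.toAlgHom M L Ω) (AlgHom.id M R) x =
      Algebra.TensorProduct.map (IsScalarTower.toAlgHom M A Ω) (AlgHom.id M R) y) :
    ∃ v : R, (1 : L) ⊗ₜ[M] v = x := by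
  let b := Module.Free.chooseBasis M R
  have key : ∀ (B : Type u) [Field B] [Algebra M B] [Algebra B Ω] [IsScalarTower M B Ω] (z : B ⊗[M] R) (i),
      (Algebra.TensorProduct.basis Ω b).repr
        (Algebra.TensorProduct.map (IsScalarTower.toAlgHom M B Ω) (AlgHom.id M R) z) i =
      algebraMap B Ω ((Algebra.TensorProduct.basis B b).repr z i) := by
    intro B _ _ _ _ z i
    induction z with
    | zero => simp
    | tmul l r =>
      rw [Algebra.TensorProduct.map_tmul, Algebra.TensorProduct.basis_repr_tmul,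
        Algebra.TensorProduct.basis_repr_tmul, Finsupp.smul_apply, Finsupp.smul_apply, Finsupp.mapRange_apply,
        Finsupp.mapRange_apply, smul_eq_mul, smul_eq_mul, map_mul, ← IsScalarTower.algebraMap_apply]
      rfl
    | add p q hp hq => rw [map_add, map_add, map_add, Finsupp.add_apply, Finsupp.add_apply, hp, hq, map_add]
  have hm : ∀ i, ∃ m : M, algebraMap M L m = (Algebra.TensorProduct.basis L b).repr x i := fun i =>
    hinter _ ((Algebra.TensorProduct.basis A b).repr y i) (by rw [← key, ← key, h])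
  choose m hm using hm
  classical
  let s := ((Algebra.TensorProduct.basis L b).repr x).support
  refine ⟨∑ i ∈ s, m i • b i, (Algebra.TensorProduct.basis L b).repr.injective ?_⟩
  ext j
  rw [Algebra.TensorProduct.basis_repr_tmul]
  simp only [one_smul, Finsupp.mapRange_apply, map_sum, map_smul, Module.Basis.repr_self, Finsupp.smul_single,
    smul_eq_mul, mul_one, Finsupp.finsetSum_apply, Finsupp.single_apply, Finset.sum_ite_eq']
  by_cases hj : j ∈ s
  · rw [if_pos hj, hm]
  · rw [if_neg hj, map_zero, Finsupp.notMem_support_iff.1 hj]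

variable [Algebra.IsAlgebraic M A] [Algebra.IsAlgebraic L Ω]
  (hmin : ∀ a : A, minpoly L (algebraMap A Ω a) = (minpoly M a).map (algebraMap M L))
  (hinter : ∀ (l : L) (a : A), algebraMap L Ω l = algebraMap A Ω a → ∃ m : M, algebraMap M L m = l)

/-- The morphism of spectra of a field extension. -/
abbrev spMap (B C : Type u) [CommRing B] [CommRing C] [Algebra B C] :
    Spec (CommRingCat.of C) ⟶ Spec (CommRingCat.of B) :=
  Spec.map (CommRingCat.ofHom (algebraMap B C))

variable {Q QL QA X : Scheme.{u}} {q : Q ⟶ Spec (CommRingCat.of M)}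
  {pL : QL ⟶ Q} {sL : QL ⟶ Spec (CommRingCat.of L)} (sqL : IsPullback pL sL q (spMap M L))
  {pA : QA ⟶ Q} {sA : QA ⟶ Spec (CommRingCat.of A)} (sqA : IsPullback pA sA q (spMap M A))
  {fL : QL ⟶ X} {fA : QA ⟶ X}
  (hagree : ∀ {Z : Scheme.{u}} (zL : Z ⟶ QL) (zA : Z ⟶ QA) (ω : Z ⟶ Spec (CommRingCat.of Ω)),
    zL ≫ sL = ω ≫ spMap L Ω → zA ≫ sA = ω ≫ spMap A Ω → zL ≫ pL = zA ≫ pA → zL ≫ fL = zA ≫ fA)

include hmin sqL sqA hagree in
/-- Topologically the two morphisms agree over `Q`. -/
theorem base_eq (z : QL) (w : QA) (h : pL z = pA w) : fL z = fA w := by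
  obtain ⟨η, hη₁, hη₂⟩ := Scheme.Pullback.exists_preimage_pullback z w h
  let P := pullback pL pA
  let E := P.residueField η
  let e := P.fromSpecResidueField η
  let iL := Spec.preimage (e ≫ pullback.fst pL pA ≫ sL)
  let iA := Spec.preimage (e ≫ pullback.snd pL pA ≫ sA)
  have hagr : iL.hom.comp (algebraMap M L) = iA.hom.comp (algebraMap M A) := by
    have : CommRingCat.ofHom (algebraMap M L) ≫ iL = CommRingCat.ofHom (algebraMap M A) ≫ iA := by
      apply Spec.map_injective
      rw [Spec.map_comp, Spec.map_comp, Spec.map_preimage, Spec.map_preimage]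
      simp only [Category.assoc]
      rw [← sqL.w, ← sqA.w, pullback.condition_assoc]
    exact congrArg CommRingCat.Hom.hom this
  obtain ⟨E', _, j, ω, hωL, hωA⟩ := exists_extension hmin E iL.hom iA.hom hagr
  let ζ := Spec.map (CommRingCat.ofHom j) ≫ e
  have h1 := hagree (ζ ≫ pullback.fst pL pA) (ζ ≫ pullback.snd pL pA) (Spec.map (CommRingCat.ofHom ω))
    (by
      simp only [ζ, Category.assoc]
      rw [← Spec.map_preimage (e ≫ pullback.fst pL pA ≫ sL), ← Spec.map_comp, ← Spec.map_comp]
      exact congrArg (fun φ => Spec.map (CommRingCat.ofHom φ)) hωL.symm)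
    (by
      simp only [ζ, Category.assoc]
      rw [← Spec.map_preimage (e ≫ pullback.snd pL pA ≫ sA), ← Spec.map_comp, ← Spec.map_comp]
      exact congrArg (fun φ => Spec.map (CommRingCat.ofHom φ)) hωA.symm)
    (by simp only [Category.assoc, pullback.condition])
  have h2 := congrArg (fun φ => φ (IsLocalRing.closedPoint E')) h1
  have hζ : ζ (IsLocalRing.closedPoint E') = η := by
    simp only [ζ, Scheme.Hom.comp_apply]
    exact P.fromSpecResidueField_apply η _
  simp only [Scheme.Hom.comp_apply, hζ, hη₁, hη₂] at h2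
  exact h2

/-- Maps into the spectrum of a tensor product. -/
theorem exists_lift_tensor {R : CommRingCat.{u}} [Algebra M R] {T : Scheme.{u}}
    (b : T ⟶ Spec (CommRingCat.of L)) (a : T ⟶ Spec R)
    (h : b ≫ spMap M L = a ≫ Spec.map (CommRingCat.ofHom (algebraMap M R))) :
    ∃ l : T ⟶ Spec (CommRingCat.of (L ⊗[M] R)),
      l ≫ Spec.map (CommRingCat.ofHom (Algebra.TensorProduct.includeLeftRingHom (R := M) (A := L) (B := R))) = b ∧
      l ≫ Spec.map (CommRingCat.ofHom
        (Algebra.TensorProduct.includeRight (R := M) (A := L) (B := R)).toRingHom) = a := by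
  refine ⟨pullback.lift b a h ≫ (pullbackSpecIso M L R).hom, ?_, ?_⟩
  · rw [Category.assoc]
    erw [pullbackSpecIso_hom_fst, pullback.lift_fst]
  · rw [Category.assoc]
    erw [pullbackSpecIso_hom_snd, pullback.lift_snd]

include hinter sqL sqA hagree in
/-- The descended morphism on an affine chart. -/
theorem exists_chart_hom {R : CommRingCat.{u}} (j : Spec R ⟶ Q) {U : X.Opens} (hU : IsAffineOpen U)
    (hL : ∀ z, pL z ∈ Set.range j → fL z ∈ U) (hA : ∀ w, pA w ∈ Set.range j → fA w ∈ U) :
    ∃ g : Spec R ⟶ X, ∀ {T : Scheme.{u}} (a : T ⟶ Spec R) (b : T ⟶ QL), a ≫ j = b ≫ pL →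
      a ≫ g = b ≫ fL := by
  let qR : CommRingCat.of M ⟶ R := Spec.preimage (j ≫ q)
  letI : Algebra M R := qR.hom.toAlgebra
  have hj : j ≫ q = spMap M R := (Spec.map_preimage _).symm
  let inR : ∀ (B : Type u) [Field B] [Algebra M B], Spec (CommRingCat.of (B ⊗[M] R)) ⟶ Spec R := fun B _ _ =>
    Spec.map (CommRingCat.ofHom (Algebra.TensorProduct.includeRight (R := M) (A := B) (B := R)).toRingHom)
  let inB : ∀ (B : Type u) [Field B] [Algebra M B],
      Spec (CommRingCat.of (B ⊗[M] R)) ⟶ Spec (CommRingCat.of B) := fun B _ _ =>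
    Spec.map (CommRingCat.ofHom (Algebra.TensorProduct.includeLeftRingHom (R := M) (A := B) (B := R)))
  have hw : ∀ (B : Type u) [Field B] [Algebra M B], (inR B ≫ j) ≫ q = inB B ≫ spMap M B := by
    intro B _ _
    rw [Category.assoc, hj, ← Spec.map_comp, ← Spec.map_comp]
    congr 1
    exact CommRingCat.hom_ext (RingHom.ext fun m =>
      ((Algebra.TensorProduct.includeRight (R := M) (A := B) (B := R)).commutes m))
  let gL := sqL.lift (inR L ≫ j) (inB L) (hw L)
  let gA := sqA.lift (inR A ≫ j) (inB A) (hw A)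
  obtain ⟨φL', hφL'⟩ : ∃ φ, Spec.map φ ≫ hU.fromSpec = gL ≫ fL := by
    refine ⟨Spec.preimage (IsOpenImmersion.lift hU.fromSpec (gL ≫ fL) ?_), ?_⟩
    · rintro _ ⟨y, rfl⟩
      rw [hU.range_fromSpec, Scheme.Hom.comp_apply]
      refine hL _ ⟨inR L y, ?_⟩
      rw [← Scheme.Hom.comp_apply, ← Scheme.Hom.comp_apply, IsPullback.lift_fst]
    · rw [Spec.map_preimage, IsOpenImmersion.lift_fac]
  obtain ⟨φA', hφA'⟩ : ∃ φ, Spec.map φ ≫ hU.fromSpec = gA ≫ fA := by
    refine ⟨Spec.preimage (IsOpenImmersion.lift hU.fromSpec (gA ≫ fA) ?_), ?_⟩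
    · rintro _ ⟨y, rfl⟩
      rw [hU.range_fromSpec, Scheme.Hom.comp_apply]
      refine hA _ ⟨inR A y, ?_⟩
      rw [← Scheme.Hom.comp_apply, ← Scheme.Hom.comp_apply, IsPullback.lift_fst]
    · rw [Spec.map_preimage, IsOpenImmersion.lift_fac]
  let mL := Algebra.TensorProduct.map (IsScalarTower.toAlgHom M L Ω) (AlgHom.id M R)
  let mA := Algebra.TensorProduct.map (IsScalarTower.toAlgHom M A Ω) (AlgHom.id M R)
  have hΩ : φL' ≫ CommRingCat.ofHom mL.toRingHom = φA' ≫ CommRingCat.ofHom mA.toRingHom := by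
    apply Spec.map_injective
    rw [← cancel_mono hU.fromSpec, Spec.map_comp, Spec.map_comp, Category.assoc, Category.assoc, hφL', hφA',
      ← Category.assoc, ← Category.assoc]
    refine hagree _ _ (inB Ω) ?_ ?_ ?_
    · rw [Category.assoc, IsPullback.lift_snd, ← Spec.map_comp, ← Spec.map_comp]
      congr 1
    · rw [Category.assoc, IsPullback.lift_snd, ← Spec.map_comp, ← Spec.map_comp]
      congr 1
    · simp only [Category.assoc, gL, gA, IsPullback.lift_fst]
      rw [← Category.assoc, ← Category.assoc (Spec.map _) (inR A), ← Spec.map_comp, ← Spec.map_comp]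
      congr 2
      exact CommRingCat.hom_ext (RingHom.ext fun r => by simp [mL, mA])
  have hv : ∀ r, ∃ v : R, (1 : L) ⊗ₜ[M] v = φL'.hom r := fun r =>
    exists_tensor_descent hinter (φL'.hom r) (φA'.hom r) (congrArg (fun ψ => ψ.hom r) hΩ)
  choose v hv using hv
  let ι : R →ₐ[M] L ⊗[M] R := Algebra.TensorProduct.includeRight
  have hinj : Function.Injective ι :=
    Algebra.TensorProduct.includeRight_injective (algebraMap M L).injective
  have hιv : ∀ r, ι (v r) = φL'.hom r := hv
  let φ : Γ(X, U) →+* R :=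
    { toFun := v
      map_one' := hinj (by rw [hιv, map_one, map_one])
      map_mul' := fun a b => hinj (by rw [hιv, map_mul, map_mul, hιv, hιv])
      map_zero' := hinj (by rw [hιv, map_zero, map_zero])
      map_add' := fun a b => hinj (by rw [hιv, map_add, map_add, hιv, hιv]) }
  refine ⟨Spec.map (CommRingCat.ofHom φ) ≫ hU.fromSpec, fun {T} a b hab => ?_⟩
  obtain ⟨l, hl1, hl2⟩ := exists_lift_tensor (L := L) (b ≫ sL) a (by
    show _ ≫ spMap M L = _ ≫ spMap M R
    rw [← hj, ← Category.assoc a, hab, Category.assoc, Category.assoc, sqL.w])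
  have hl3 : l ≫ gL = b := by
    apply sqL.hom_ext
    · rw [Category.assoc, IsPullback.lift_fst, ← Category.assoc, ← hab]
      exact congrArg (· ≫ j) hl2
    · rw [Category.assoc, IsPullback.lift_snd]
      exact hl1
  rw [← hl3, ← hl2, Category.assoc, Category.assoc, ← hφL']
  simp only [← Category.assoc]
  congr 1
  rw [Category.assoc, ← Spec.map_comp]
  congr 2
  exact CommRingCat.hom_ext (RingHom.ext fun r => hιv r)

include hmin hinter sqL sqA hagree in
/-- Descent to the intersection of the two fields. -/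
theorem exists_descent_hom : ∃ f₀ : Q ⟶ X, pL ≫ f₀ = fL := by
  haveI : Flat pL := MorphismProperty.of_isPullback (P := @Flat) sqL.flip inferInstance
  haveI : Surjective pL := MorphismProperty.of_isPullback (P := @Surjective) sqL.flip inferInstance
  haveI : Surjective pA := MorphismProperty.of_isPullback (P := @Surjective) sqA.flip inferInstance
  haveI : UniversallyOpen pA := MorphismProperty.of_isPullback (P := @UniversallyOpen) sqA.flip inferInstance
  have hchart : ∀ x : Q, ∃ (D : Q.Opens) (U : X.Opens), x ∈ D ∧ IsAffineOpen D ∧ IsAffineOpen U ∧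
      (∀ z, pL z ∈ D → fL z ∈ U) ∧ ∀ w, pA w ∈ D → fA w ∈ U := by
    intro x
    obtain ⟨w, rfl⟩ := pA.surjective x
    obtain ⟨U, hU, hwU, -⟩ := exists_isAffineOpen_mem_and_subset (U := ⊤) (x := fA w) trivial
    let V : Q.Opens := ⟨pA '' (fA ⁻¹ᵁ U : Set QA), pA.isOpenMap _ (fA ⁻¹ᵁ U).2⟩
    obtain ⟨D, hD, hwD, hDV⟩ := exists_isAffineOpen_mem_and_subset (U := V) (x := pA w) ⟨w, hwU, rfl⟩
    refine ⟨D, U, hwD, hD, hU, fun z hz => ?_, fun w' hw' => ?_⟩
    · obtain ⟨w'', hw'', e⟩ := hDV hz
      rw [base_eq hmin sqL sqA hagree z w'' e.symm]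
      exact hw''
    · obtain ⟨w'', hw'', e⟩ := hDV hw'
      obtain ⟨z, hz⟩ := pL.surjective (pA w')
      rw [← base_eq hmin sqL sqA hagree z w' hz, base_eq hmin sqL sqA hagree z w'' (hz.trans e.symm)]
      exact hw''
  choose D U hxD hD hU hDL hDA using hchart
  have hloc : ∀ x : Q, ∃ g : (D x).toScheme ⟶ X,
      pullback.fst (D x).ι pL ≫ g = pullback.snd (D x).ι pL ≫ fL := by
    intro x
    obtain ⟨g, hg⟩ := exists_chart_hom hinter sqL sqA hagree (hD x).fromSpec (hU x)
      (fun z hz => hDL x z (by rwa [(hD x).range_fromSpec] at hz))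
      (fun w hw => hDA x w (by rwa [(hD x).range_fromSpec] at hw))
    refine ⟨(hD x).isoSpec.hom ≫ g, ?_⟩
    rw [← Category.assoc]
    refine hg _ _ ?_
    rw [Category.assoc, (hD x).isoSpec_hom_fromSpec, pullback.condition]
  choose g hg using hloc
  let 𝒰 : Q.OpenCover := Q.openCoverOfIsOpenCover D
    (TopologicalSpace.IsOpenCover.mk (eq_top_iff.2 fun x _ => TopologicalSpace.Opens.mem_iSup.2 ⟨x, hxD x⟩))
  have hcompat : ∀ x y, pullback.fst (D x).ι (D y).ι ≫ g x = pullback.snd (D x).ι (D y).ι ≫ g y := by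
    intro x y
    let W := pullback.fst (D x).ι (D y).ι ≫ (D x).ι
    haveI : Flat (pullback.fst W pL) := inferInstance
    haveI : Surjective (pullback.fst W pL) := inferInstance
    haveI := Flat.epi_of_flat_of_surjective (pullback.fst W pL)
    rw [← cancel_epi (pullback.fst W pL)]
    have e1 := (pullback.lift (pullback.fst W pL ≫ pullback.fst (D x).ι (D y).ι) (pullback.snd W pL)
      (by rw [Category.assoc]; exact pullback.condition)) ≫= hg x
    have e2 := (pullback.lift (pullback.fst W pL ≫ pullback.snd (D x).ι (D y).ι) (pullback.snd W pL)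
      (by rw [Category.assoc, ← pullback.condition (f := (D x).ι)]; exact pullback.condition)) ≫= hg y
    simp only [← Category.assoc, pullback.lift_fst, pullback.lift_snd] at e1 e2
    simp only [← Category.assoc]
    exact e1.trans e2.symm
  refine ⟨𝒰.glueMorphisms g hcompat, ?_⟩
  refine Scheme.Cover.hom_ext (𝒰.pullback₁ pL) _ _ fun x => ?_
  have e1 : pullback.snd pL (D x).ι ≫ g x = pullback.fst pL (D x).ι ≫ fL := by
    have e := (pullbackSymmetry pL (D x).ι).hom ≫= hg x
    rw [← Category.assoc, ← Category.assoc, pullbackSymmetry_hom_comp_fst, pullbackSymmetry_hom_comp_snd] at e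
    exact e
  have e2 : (D x).ι ≫ 𝒰.glueMorphisms g hcompat = g x := 𝒰.ι_glueMorphisms g hcompat x
  have e3 : pullback.fst pL (D x).ι ≫ pL ≫ 𝒰.glueMorphisms g hcompat = pullback.fst pL (D x).ι ≫ fL := by
    rw [← Category.assoc, pullback.condition, Category.assoc, e2, e1]
  exact e3

end EdQuotLib
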