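import Mathlib

/-!
# An algebraic closure meeting a field in its ground field

Let `M ⊆ L, A ⊆ Ω` with `A` algebraic over `M` such that minimal polynomials over `L` of elements of `A` have
coefficients in `M`. Then the kernel of `L ⊗_M A → Ω` is nil, so any pair of compatible embeddings of `L` and `A`
into a field extends to `Ω`.
-/

set_option autoImplicit false
set_option linter.style.haveILetI false
universe u

open TensorProduct

noncomputable section

namespace EdQuotLib

variable (M L A Ω : Type u) [Field M] [Field L] [Field A] [Field Ω]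
  [Algebra M L] [Algebra M A] [Algebra M Ω] [Algebra L Ω] [Algebra A Ω]
  [IsScalarTower M L Ω] [IsScalarTower M A Ω]

/-- Multiplication. -/
def mult : L ⊗[M] A →ₐ[L] Ω :=
  Algebra.TensorProduct.lift (Algebra.ofId L Ω) (IsScalarTower.toAlgHom M A Ω) fun x y => Commute.all _ _

variable {M L A Ω}

theorem mult_tmul (l : L) (a : A) : mult M L A Ω (l ⊗ₜ a) = algebraMap L Ω l * algebraMap A Ω a := rfl

variable (hmin : ∀ a : A, minpoly L (algebraMap A Ω a) = (minpoly M a).map (algebraMap M L))

include hmin in
/-- On a finite separable subextension multiplication is injective. -/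
theorem injective_mult_map (F : IntermediateField M A) [FiniteDimensional M F] [Algebra.IsSeparable M F] :
    Function.Injective ((mult M L A Ω).comp (Algebra.TensorProduct.map (AlgHom.id L L) F.val)) := by
  obtain ⟨α, hα⟩ := Field.exists_primitive_element M F
  let pb := IntermediateField.adjoin.powerBasis (IsIntegral.of_finite M α)
  let e : (IntermediateField.adjoin M ({α} : Set F)) ≃ₐ[M] F :=
    (IntermediateField.equivOfEq hα).trans IntermediateField.topEquiv
  let pb' := pb.map e
  have hdim : pb'.dim = (minpoly L (algebraMap A Ω (α : A))).natDegree := by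
    rw [hmin, minpoly.algHom_eq F.val Subtype.val_injective α |>.trans rfl |> (fun h => (show minpoly M (α : A) = minpoly M α from h)),
      (minpoly.monic (IsIntegral.of_finite M α)).natDegree_map]
    rfl
  let b := Algebra.TensorProduct.basis L pb'.basis
  let φ := (mult M L A Ω).comp (Algebra.TensorProduct.map (AlgHom.id L L) F.val)
  have hb : ∀ i, φ (b i) = algebraMap A Ω (α : A) ^ (i : ℕ) := by
    intro i
    simp only [φ, b, Algebra.TensorProduct.basis_apply, AlgHom.comp_apply, Algebra.TensorProduct.map_tmul, mult_tmul,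
      pb'.coe_basis, map_one, one_mul, map_pow]
    rfl
  have hli : LinearIndependent L fun i => φ (b i) := by
    simp only [hb]
    exact (linearIndependent_pow (K := L) (algebraMap A Ω (α : A))).comp (Fin.cast hdim) (Fin.cast_injective _)
  intro x y hxy
  apply b.ext_elem
  have hl : φ.toLinearMap x = φ.toLinearMap y := hxy
  have hs : ∀ z, φ.toLinearMap z = ∑ i, b.repr z i • φ (b i) := fun z => by
    conv_lhs => rw [← b.sum_repr z, map_sum]
    simp
  have h0 : ∑ i, (b.repr x i - b.repr y i) • φ (b i) = 0 := by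
    simp [sub_smul, Finset.sum_sub_distrib, ← hs, hl]
  exact fun i => sub_eq_zero.1 (Fintype.linearIndependent_iff.1 hli _ h0 i)

variable [Algebra.IsAlgebraic M A]

theorem exists_pow_mem_separable (t : L ⊗[M] A) (p : ℕ) [ExpChar M p] [ExpChar (L ⊗[M] A) p] :
    ∃ (n : ℕ) (F : IntermediateField M A), FiniteDimensional M F ∧ F ≤ separableClosure M A ∧
      t ^ p ^ n ∈ (Algebra.TensorProduct.map (AlgHom.id L L) F.val).range := by
  have up : ∀ {s : L ⊗[M] A} {F G : IntermediateField M A}, F ≤ G →
      s ∈ (Algebra.TensorProduct.map (AlgHom.id L L) F.val).range →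
      s ∈ (Algebra.TensorProduct.map (AlgHom.id L L) G.val).range := by
    rintro s F G hFG ⟨z, rfl⟩
    refine ⟨Algebra.TensorProduct.map (AlgHom.id L L) (IntermediateField.inclusion hFG) z, ?_⟩
    induction z with
    | zero => simp
    | tmul l a => rfl
    | add a b ha hb => simp only [map_add, RingHom.map_add] at ha hb ⊢; rw [ha, hb]
  induction t with
  | zero =>
    refine ⟨0, ⊥, inferInstance, bot_le, ?_⟩
    rw [pow_zero, pow_one]
    exact Subalgebra.zero_mem _
  | tmul l a =>
    haveI : ExpChar (separableClosure M A) p := expChar_of_injective_algebraMap (algebraMap M _).injective p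
    obtain ⟨n, s, hs⟩ := IsPurelyInseparable.pow_mem (separableClosure M A) p a
    refine ⟨n, IntermediateField.adjoin M {(s : A)},
      IntermediateField.adjoin.finiteDimensional (Algebra.IsIntegral.isIntegral _),
      IntermediateField.adjoin_simple_le_iff.2 s.2,
      (l ^ p ^ n) ⊗ₜ ⟨(s : A), IntermediateField.mem_adjoin_simple_self M _⟩, ?_⟩
    rw [Algebra.TensorProduct.tmul_pow, ← hs]
    rfl
  | add x y hx hy =>
    obtain ⟨n, F, _, hF, hxF⟩ := hx
    obtain ⟨m, G, _, hG, hyG⟩ := hy
    refine ⟨n + m, F ⊔ G, inferInstance, sup_le hF hG, ?_⟩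
    rw [add_pow_expChar_pow, pow_add, pow_mul, mul_comm (p ^ n), pow_mul]
    exact Subalgebra.add_mem _ (Subalgebra.pow_mem _ (up le_sup_left hxF) _)
      (Subalgebra.pow_mem _ (up le_sup_right hyG) _)

include hmin in
theorem isNilpotent_of_mult_eq_zero {t : L ⊗[M] A} (ht : mult M L A Ω t = 0) : IsNilpotent t := by
  obtain ⟨p, _⟩ := ExpChar.exists M
  haveI : ExpChar (L ⊗[M] A) p := expChar_of_injective_algebraMap (algebraMap M _).injective p
  obtain ⟨n, F, hfd, hF, z, hz⟩ := exists_pow_mem_separable (L := L) t p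
  haveI := hfd
  haveI : Algebra.IsSeparable M F := (le_separableClosure_iff M A F).1 hF
  have : z = 0 := injective_mult_map hmin F (by
    rw [map_zero]
    show mult M L A Ω ((Algebra.TensorProduct.map (AlgHom.id L L) F.val) z) = 0
    rw [show (Algebra.TensorProduct.map (AlgHom.id L L) F.val) z = t ^ p ^ n from hz, map_pow, ht,
      zero_pow (pow_ne_zero n (expChar_pos M p).ne')])
  exact ⟨p ^ n, by rw [← hz, this]; exact map_zero _⟩

variable [Algebra.IsAlgebraic L Ω]

include hmin in
/-- Compatible embeddings of `L` and `A` extend to `Ω`. -/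
theorem exists_extension (E : Type u) [Field E] (iL : L →+* E) (iA : A →+* E)
    (h : iL.comp (algebraMap M L) = iA.comp (algebraMap M A)) :
    ∃ (E' : Type u) (_ : Field E') (j : E →+* E') (ω : Ω →+* E'),
      ω.comp (algebraMap L Ω) = j.comp iL ∧ ω.comp (algebraMap A Ω) = j.comp iA := by
  letI := iL.toAlgebra
  letI : Algebra M E := (iL.comp (algebraMap M L)).toAlgebra
  haveI : IsScalarTower M L E := IsScalarTower.of_algebraMap_eq fun _ => rfl
  let iA' : A →ₐ[M] E := { iA with commutes' := fun r => (RingHom.congr_fun h r).symm }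
  let ψ : L ⊗[M] A →ₐ[L] E := Algebra.TensorProduct.lift (Algebra.ofId L E) iA' fun x y => Commute.all _ _
  have hker : ∀ t, mult M L A Ω t = 0 → ψ t = 0 := fun t ht =>
    ((isNilpotent_of_mult_eq_zero hmin ht).map ψ).eq_zero
  let R := (mult M L A Ω).range
  have hsurj : Function.Surjective (mult M L A Ω).rangeRestrict := AlgHom.rangeRestrict_surjective _
  have hk : RingHom.ker (mult M L A Ω).rangeRestrict.toRingHom ≤ RingHom.ker ψ.toRingHom := fun t ht =>
    hker t (congrArg Subtype.val ht)
  let χ : R →ₐ[L] E := AlgHom.liftOfSurjective (mult M L A Ω).rangeRestrict hsurj ψ hk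
  have hχ : ∀ t, χ ((mult M L A Ω).rangeRestrict t) = ψ t := fun t => AlgHom.liftOfSurjective_apply _ _ _ _ t
  -- `R` is a field over which `Ω` is algebraic
  haveI : Algebra.IsAlgebraic L R :=
    ⟨fun r => (isAlgebraic_algebraMap_iff (S := R) (A := Ω) Subtype.val_injective).1 (Algebra.IsAlgebraic.isAlgebraic r.1)⟩
  letI : Field R := (Subalgebra.isField_of_algebraic R).toField
  let E' := AlgebraicClosure E
  letI : Algebra R E' := ((algebraMap E E').comp χ.toRingHom).toAlgebra
  haveI : Algebra.IsAlgebraic R Ω := Algebra.IsAlgebraic.tower_top (K := L) R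
  let ω : Ω →ₐ[R] E' := IsAlgClosed.lift
  refine ⟨E', inferInstance, algebraMap E E', ω.toRingHom, RingHom.ext fun l => ?_, RingHom.ext fun a => ?_⟩
  · have e1 : algebraMap L Ω l = algebraMap R Ω ((mult M L A Ω).rangeRestrict (l ⊗ₜ 1)) := by
      show _ = mult M L A Ω (l ⊗ₜ 1)
      rw [mult_tmul, map_one, mul_one]
    show ω (algebraMap L Ω l) = _
    rw [e1, AlgHom.commutes]
    show algebraMap E E' (χ _) = _
    rw [hχ]
    simp [ψ]
    rfl
  · have e1 : algebraMap A Ω a = algebraMap R Ω ((mult M L A Ω).rangeRestrict (1 ⊗ₜ a)) := by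
      show _ = mult M L A Ω (1 ⊗ₜ a)
      rw [mult_tmul, map_one, one_mul]
    show ω (algebraMap A Ω a) = _
    rw [e1, AlgHom.commutes]
    show algebraMap E E' (χ _) = _
    rw [hχ]
    simp [ψ, iA']

end EdQuotLib
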