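import Groth.Agent.EdQuotLib.Field
import Groth.Agent.EdFibLib.Space
import Groth.Agent.FibDimLib.TopLocalDim

/-!
# The field data for descending a point
-/

set_option autoImplicit false
set_option linter.style.haveILetI false
universe u

open CategoryTheory CategoryTheory.Limits AlgebraicGeometry Polynomial

noncomputable section

namespace EdQuotLib

variable {k L Ω : Type u} [Field k] [Field L] [Field Ω] [Algebra k L] [Algebra k Ω] [Algebra L Ω]
  [IsScalarTower k L Ω] [IsAlgClosed Ω] [Algebra.IsAlgebraic L Ω]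

/-- A subfield stable under the automorphisms over `L` contains the coefficients of the minimal polynomials over `L` of its elements. -/
theorem exists_minpoly_coeff (A : IntermediateField k Ω) (hA : ∀ σ : Ω ≃ₐ[L] Ω, ∀ a ∈ A, σ a ∈ A) (a : A) (n : ℕ) :
    algebraMap L Ω ((minpoly L (a : Ω)).coeff n) ∈ A := by
  haveI : IsAlgClosure L Ω := ⟨inferInstance, inferInstance⟩
  haveI : Normal L Ω := IsAlgClosure.normal L Ω
  have hint : IsIntegral L (a : Ω) := Algebra.IsIntegral.isIntegral _
  let p := (minpoly L (a : Ω)).map (algebraMap L Ω)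
  have hm : p.Monic := (minpoly.monic hint).map _
  have hs : p.Splits := IsAlgClosed.splits p
  have hr : ∀ r ∈ p.roots, r ∈ (A.val : A →+* Ω).range := by
    intro r hr
    obtain ⟨σ, hσ⟩ := minpoly.exists_algEquiv_of_root' (K := L) (Algebra.IsAlgebraic.isAlgebraic (a : Ω)) (x := r) (by
      rw [aeval_def, ← Polynomial.eval_map]
      exact (mem_roots'.1 hr).2)
    exact ⟨⟨r, hσ ▸ hA σ _ a.2⟩, rfl⟩
  have := (lifts_iff_coeff_lifts p).1 (Splits.mem_lift_of_roots_mem_range hs hm (A.val : A →+* Ω) hr) n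
  obtain ⟨c, hc⟩ := this
  have hcoef : p.coeff n = algebraMap L Ω ((minpoly L (a : Ω)).coeff n) := coeff_map _ _
  rw [← hcoef, ← hc]
  exact c.2

/-- Minimal polynomials do not change from the intersection to `L`. -/
theorem minpoly_eq (A : IntermediateField k Ω) (M : IntermediateField k L)
    (hM : ∀ l, l ∈ M ↔ algebraMap L Ω l ∈ A) [Algebra M A]
    (hMA : ∀ m : M, ((algebraMap M A m : A) : Ω) = algebraMap L Ω m)
    (hA : ∀ σ : Ω ≃ₐ[L] Ω, ∀ a ∈ A, σ a ∈ A) (a : A) :
    IsAlgebraic M a ∧ minpoly L (a : Ω) = (minpoly M a).map (algebraMap M L) := by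
  have hint : IsIntegral L (a : Ω) := Algebra.IsIntegral.isIntegral _
  have hl : minpoly L (a : Ω) ∈ lifts (algebraMap M L) := (lifts_iff_coeff_lifts _).2 fun n =>
    ⟨⟨_, (hM _).2 (exists_minpoly_coeff A hA a n)⟩, rfl⟩
  obtain ⟨p, hp, -, hpm⟩ := lifts_and_degree_eq_and_monic hl (minpoly.monic hint)
  have he : Polynomial.aeval a p = 0 := by
    apply Subtype.val_injective
    show (A.val : A →+* Ω) (p.eval₂ (algebraMap M A) a) = 0
    rw [hom_eval₂, show (A.val : A →+* Ω).comp (algebraMap M A) = (algebraMap L Ω).comp (algebraMap M L) from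
      RingHom.ext hMA, ← eval₂_map, hp]
    exact minpoly.aeval L (a : Ω)
  have hirr : Irreducible p :=
    Monic.irreducible_of_irreducible_map (algebraMap M L) p hpm (hp ▸ minpoly.irreducible hint)
  exact ⟨⟨p, hpm.ne_zero, he⟩, by rw [← hp, minpoly.eq_of_irreducible_of_monic hirr he hpm]⟩

/-- An algebraically closed subfield containing two subfields. -/
theorem exists_closure (F₁ F₂ : IntermediateField k Ω) :
    ∃ A : IntermediateField k Ω, F₁ ≤ A ∧ F₂ ≤ A ∧ (∀ a : Ω, IsAlgebraic A a → a ∈ A) ∧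
      (∀ σ : Ω ≃ₐ[k] Ω, (∀ x ∈ F₁, σ x ∈ A) → (∀ x ∈ F₂, σ x ∈ A) → ∀ a ∈ A, σ a ∈ A) ∧
      Algebra.trdeg k A ≤ Algebra.trdeg k F₁ + Algebra.trdeg k F₂ := by
  obtain ⟨s₁, hs₁⟩ := exists_isTranscendenceBasis k F₁
  obtain ⟨s₂, hs₂⟩ := exists_isTranscendenceBasis k F₂
  let s : Set Ω := (F₁.val '' s₁) ∪ (F₂.val '' s₂)
  let E := IntermediateField.adjoin k s
  let A := (algebraicClosure E Ω).restrictScalars k
  have hmem : ∀ a, a ∈ A ↔ IsAlgebraic E a := fun a => mem_algebraicClosure_iff
  have hEA : E ≤ A := fun x hx => (hmem x).2 (isAlgebraic_algebraMap (⟨x, hx⟩ : E))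
  have hle : ∀ (F : IntermediateField k Ω) (t : Set F), IsTranscendenceBasis k ((↑) : t → F) →
      F.val '' t ⊆ s → F ≤ A := by
    intro F t ht hts x hx
    rw [hmem]
    haveI := ht.isAlgebraic
    have halg := Algebra.IsAlgebraic.isAlgebraic (R := Algebra.adjoin k (Set.range ((↑) : t → F))) (⟨x, hx⟩ : F)
    have hsub : ∀ y : Algebra.adjoin k (Set.range ((↑) : t → F)), ((y : F) : Ω) ∈ E := by
      intro y
      have : (Algebra.adjoin k (Set.range ((↑) : t → F))).map F.val ≤ E.toSubalgebra := by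
        rw [AlgHom.map_adjoin, Subtype.range_coe]
        exact Algebra.adjoin_le fun z hz => IntermediateField.subset_adjoin k s (hts hz)
      exact this ⟨y.1, y.2, rfl⟩
    let f : Algebra.adjoin k (Set.range ((↑) : t → F)) →+* E :=
      RingHom.codRestrict ((F.val : F →+* Ω).comp (algebraMap _ F)) E hsub
    have hf : Function.Injective f := fun a b hab => Subtype.ext (Subtype.ext (congrArg Subtype.val hab :))
    exact halg.ringHom_of_comp_eq f (F.val : F →+* Ω) hf rfl
  have h₁ : F₁ ≤ A := hle F₁ s₁ hs₁ Set.subset_union_left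
  have h₂ : F₂ ≤ A := hle F₂ s₂ hs₂ Set.subset_union_right
  have hclosed : ∀ a : Ω, IsAlgebraic A a → a ∈ A := by
    intro a ha
    rw [hmem]
    have h := (algebraicClosure.isAlgebraic E Ω)
    have ha' : IsAlgebraic (algebraicClosure E Ω) a := ha
    exact ha'.restrictScalars E
  refine ⟨A, h₁, h₂, hclosed, fun σ hσ₁ hσ₂ a ha => ?_, ?_⟩
  · have hs : ∀ x ∈ s, σ x ∈ A := by
      rintro _ (⟨y, -, rfl⟩ | ⟨y, -, rfl⟩)
      exacts [hσ₁ _ y.2, hσ₂ _ y.2]
    have hE : E.map σ.toAlgHom ≤ A := by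
      rw [IntermediateField.adjoin_map, IntermediateField.adjoin_le_iff]
      rintro _ ⟨x, hx, rfl⟩
      exact hs x hx
    let f : E →+* A := RingHom.codRestrict ((σ : Ω →+* Ω).comp (algebraMap E Ω)) A fun y => hE ⟨y.1, y.2, rfl⟩
    refine hclosed _ (((hmem a).1 ha).ringHom_of_comp_eq f (σ : Ω →+* Ω) (fun x y hxy => ?_) rfl)
    exact Subtype.ext (σ.injective (congrArg Subtype.val hxy :))
  · letI : Algebra E A := (IntermediateField.inclusion hEA).toRingHom.toAlgebra
    haveI : IsScalarTower k E A := IsScalarTower.of_algebraMap_eq fun x => rfl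
    haveI : Algebra.IsAlgebraic E A := ⟨fun z =>
      (((hmem _).1 z.2).of_ringHom_of_comp_eq (RingHom.id E) (A.val : A →+* Ω) Function.surjective_id
        Subtype.val_injective rfl)⟩
    rw [← trdeg_add_eq k E (A := A), (trdeg_eq_zero : Algebra.trdeg E A = 0), add_zero]
    let t : Set E := Subtype.val ⁻¹' s
    have htop : IntermediateField.adjoin k t = ⊤ := by
      apply IntermediateField.map_injective E.val
      rw [IntermediateField.adjoin_map, ← AlgHom.fieldRange_eq_map, IntermediateField.fieldRange_val]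
      congr 1
      exact Set.image_preimage_eq_of_subset fun l hl => ⟨⟨l, IntermediateField.subset_adjoin k _ hl⟩, rfl⟩
    haveI : Algebra.IsAlgebraic (Algebra.adjoin k t) E := ⟨fun z => by
      obtain ⟨r, hr, q, hq, rfl⟩ :=
        IntermediateField.mem_adjoin_iff_div.mp (htop.ge (IntermediateField.mem_top (x := z)))
      rw [div_eq_mul_inv]
      exact (isAlgebraic_algebraMap (⟨r, hr⟩ : Algebra.adjoin k t)).mul
        (isAlgebraic_algebraMap (⟨q, hq⟩ : Algebra.adjoin k t)).inv⟩
    refine (Algebra.IsAlgebraic.trdeg_le_cardinalMk (R := k) (A := E) (s := t)).trans ?_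
    refine (Cardinal.mk_preimage_of_injective _ _ Subtype.val_injective).trans ?_
    refine (Cardinal.mk_union_le _ _).trans (add_le_add ?_ ?_)
    · exact Cardinal.mk_image_le.trans hs₁.cardinalMk_eq_trdeg.le
    · exact Cardinal.mk_image_le.trans hs₂.cardinalMk_eq_trdeg.le

end EdQuotLib
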