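import Groth.Agent.EdQuotLib.Descend
import Groth.Agent.EdQuotLib.Fields
import Groth.Agent.QuotStLib.Coarse
import Groth.Prelude.Def_EssDim

/-!
# Descent of torsors with an equivariant map

An object of `[X/G]` over a field descends to the relative algebraic closure of the field of definition of
the torsor and the residue field of one point of the image in `X`.
-/

set_option autoImplicit false
set_option linter.style.haveILetI false
set_option backward.isDefEq.respectTransparency false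
set_option backward.isDefEq.respectTransparency.types false
universe u

open CategoryTheory CategoryTheory.Limits MonoidalCategory CartesianMonoidalCategory MonObj GrpObj AlgebraicGeometry
open EssDim

noncomputable section

namespace EdQuotLib

variable {k : Type u} [Field k]

/-- The residue transcendence degree over a field is at most the dimension. -/
theorem toENat_resTrdeg_le_dim {X : Scheme.{u}} (f : X ⟶ Spec (CommRingCat.of k)) [LocallyOfFiniteType f] (x : X) :
    ((Cardinal.toENat (Dual3.resTrdeg f x) : ℕ∞) : WithBot ℕ∞) ≤ topologicalKrullDim X := by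
  refine le_trans ?_ ((f.fiberι (f x)).isEmbedding.isInducing.topologicalKrullDim_le)
  refine le_trans ?_ (FibDimLib.localDim_le (f.asFiber x))
  show _ ≤ FlatMor.fibreDimAt f x
  rw [AlgSpLib.fibreDimAt_eq_stalk_add_resTrdeg]
  exact le_add_of_nonneg_left ringKrullDim_nonneg_of_nontrivial

variable {G X : Over (Spec (CommRingCat.of k))} [GrpObj G] {aX : AlgGrp.Action G X}

/-- The torsor of an object of a quotient stack. -/
def toBG (A : AlgSt.QuotObj Scheme.fppfPrecoverage G aX) :
    AlgSt.QuotObj Scheme.fppfPrecoverage G (AlgSt.trivAction G) :=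
  ⟨A.base, A.P, A.act, A.π, A.cart, A.loc, toUnit _, toUnit_unique _ _⟩

/-- A `k`-homomorphism corestricted to an intermediate field. -/
def corestr {B Ω : Type u} [Field B] [Field Ω] [Algebra k B] [Algebra k Ω] (f : B →ₐ[k] Ω)
    (A : IntermediateField k Ω) (h : ∀ b, f b ∈ A) : B →ₐ[k] A :=
  f.codRestrict A.toSubalgebra h

theorem val_comp_corestr {B Ω : Type u} [Field B] [Field Ω] [Algebra k B] [Algebra k Ω] (f : B →ₐ[k] Ω)
    (A : IntermediateField k Ω) (h : ∀ b, f b ∈ A) : A.val.comp (corestr f A h) = f :=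
  AlgHom.ext fun _ => rfl

variable [LocallyOfFiniteType G.hom] [LocallyOfFiniteType X.hom]
  [hfib : FibCat.IsFibGrpd (AlgSt.BG Scheme.fppfPrecoverage G).p]
  [FibCat.IsFibGrpd (AlgSt.QuotSt Scheme.fppfPrecoverage G aX).p]

omit [LocallyOfFiniteType G.hom] [LocallyOfFiniteType X.hom] [FibCat.IsFibGrpd (AlgSt.QuotSt Scheme.fppfPrecoverage G aX).p] in
/-- Pullbacks of torsors. -/
theorem exists_pull (B₀ : AlgSt.QuotObj Scheme.fppfPrecoverage G (AlgSt.trivAction G))
    {T : Over (Spec (CommRingCat.of k))} (r : T ⟶ B₀.base) :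
    ∃ (B : AlgSt.QuotObj Scheme.fppfPrecoverage G (AlgSt.trivAction G)) (h : B ⟶ B₀) (e : B.base = T),
      h.base = eqToHom e ≫ r := by
  obtain ⟨B, h, hh⟩ := FibLib.exists_lift (AlgSt.BG Scheme.fppfPrecoverage G).p (a := B₀) rfl r
  refine ⟨B, h, IsHomLift.domain_eq (AlgSt.BG Scheme.fppfPrecoverage G).p r h, ?_⟩
  have := IsHomLift.fac' (AlgSt.BG Scheme.fppfPrecoverage G).p r h
  rw [eqToHom_refl, Category.comp_id] at this
  exact this

theorem exists_descends {L : Type u} [Field L] [Algebra k L]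
    (x : StkCnt.pts (AlgSt.QuotSt Scheme.fppfPrecoverage G aX) L) (K : IntermediateField k L)
    (hK : Descends (Gerb.isoClPsh (AlgSt.BG Scheme.fppfPrecoverage G))
      (Quot.mk (Gerb.IsoRel (AlgSt.BG Scheme.fppfPrecoverage G) (SGA7.pt (K := k) L)) ⟨toBG x.1, x.2⟩) K) :
    ∃ M : IntermediateField k L,
      ((Cardinal.toENat (Algebra.trdeg k M) : ℕ∞) : WithBot ℕ∞) ≤
          ((Cardinal.toENat (Algebra.trdeg k K) : ℕ∞) : WithBot ℕ∞) + topologicalKrullDim (X.left : Type u) ∧
        Descends (Gerb.isoClPsh (AlgSt.QuotSt Scheme.fppfPrecoverage G aX))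
          (Quot.mk (Gerb.IsoRel (AlgSt.QuotSt Scheme.fppfPrecoverage G aX) (SGA7.pt (K := k) L)) x) M := by
  obtain ⟨⟨bD, PD, actD, πD, cartD, locD, φD, eqvD⟩, hbD⟩ := x
  obtain rfl : bD = SGA7.pt (K := k) L := hbD
  obtain ⟨⟨⟨b₀, P₀, act₀, π₀, cart₀, loc₀, φ₀, eqv₀⟩, hb₀⟩, ψ, hψ⟩ :=
    (descends_isoCl_iff (AlgSt.BG Scheme.fppfPrecoverage G) _ K).1 hK
  obtain rfl : b₀ = SGA7.pt (K := k) K := hb₀
  let top : PD ⟶ P₀ := ψ.top
  haveI := hψ
  have hψb : resPt K.val = ψ.base := by
    have h : ψ.base = eqToHom rfl ≫ resPt K.val ≫ eqToHom rfl :=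
      IsHomLift.fac' (AlgSt.BG Scheme.fppfPrecoverage G).p (resPt K.val) ψ
    simpa using h.symm
  have cartTop : IsPullback top πD π₀ (resPt K.val) := hψb ▸ ψ.cart
  have eqvTop : actD.act ≫ top = (G ◁ top) ≫ act₀.act := ψ.eqv
  -- an algebraic closure and the closure of `K` in it
  let Ω := AlgebraicClosure L
  let ιL : L →ₐ[k] Ω := IsScalarTower.toAlgHom k L Ω
  let F₁ : IntermediateField k Ω := K.map ιL
  let Kb : IntermediateField k Ω := (algebraicClosure F₁ Ω).restrictScalars k
  haveI : IsAlgClosed Kb := (algebraicClosure.isAlgClosure F₁ Ω).isAlgClosed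
  have hF₁Kb : F₁ ≤ Kb := fun y hy =>
    mem_algebraicClosure_iff.2 (isAlgebraic_algebraMap (⟨y, hy⟩ : F₁))
  have hKF₁ : ∀ y : K, (ιL.comp K.val) y ∈ F₁ := fun y => ⟨y.1, y.2, rfl⟩
  let jK : K →ₐ[k] Kb := corestr (ιL.comp K.val) Kb fun y => hF₁Kb (hKF₁ y)
  -- a point of the torsor over `Kb`
  let B₀ : AlgSt.QuotObj Scheme.fppfPrecoverage G (AlgSt.trivAction G) :=
    ⟨SGA7.pt (K := k) K, P₀, act₀, π₀, cart₀, loc₀, φ₀, eqv₀⟩
  obtain ⟨⟨bk, Pk, actk, πk, cartk, lock, φk, eqvk⟩, hk, ek, hkb⟩ := exists_pull B₀ (resPt jK)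
  obtain rfl : bk = SGA7.pt (K := k) Kb := ek
  rw [eqToHom_refl, Category.id_comp] at hkb
  haveI : LocallyOfFinitePresentation G.hom := inferInstance
  obtain ⟨s, hs⟩ := QuotStLib.exists_section_of_isAlgClosed
    (⟨SGA7.pt (K := k) Kb, Pk, actk, πk, cartk, lock, φk, eqvk⟩ :
      AlgSt.QuotObj Scheme.fppfPrecoverage G (AlgSt.trivAction G)) (Ω := Kb)
    (t := (SGA7.pt (K := k) Kb).hom) rfl
  rw [eqToHom_refl] at hs
  let p₀ : SGA7.pt (K := k) Kb ⟶ P₀ := s ≫ hk.top
  have hp₀ : p₀ ≫ π₀ = resPt jK := by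
    show (s ≫ hk.top) ≫ π₀ = _
    rw [Category.assoc]
    have w : hk.top ≫ π₀ = πk ≫ hk.base := hk.cart.w
    rw [w, hkb, ← Category.assoc]
    exact (congrArg (· ≫ resPt jK) hs).trans (Category.id_comp _)
  -- the point over `Ω` of the torsor and of `X`
  let pΩ : SGA7.pt (K := k) Ω ⟶ PD := cartTop.lift (resPt Kb.val ≫ p₀) (resPt ιL) (by
    rw [Category.assoc, hp₀, ← resPt_comp, ← resPt_comp, val_comp_corestr])
  let ξ : SGA7.pt (K := k) Ω ⟶ X := pΩ ≫ φD
  let x₀ : X.left := ξ.left (IsLocalRing.closedPoint Ω)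
  let κ := X.left.residueField x₀
  let φκ : k →+* κ := (Spec.preimage (X.left.fromSpecResidueField x₀ ≫ X.hom)).hom
  letI : Algebra k κ := φκ.toAlgebra
  let gam' : κ →+* Ω := (X.left.descResidueField (Scheme.stalkClosedPointTo ξ.left)).hom
  have hgam' : Spec.map (CommRingCat.ofHom gam') ≫ X.left.fromSpecResidueField x₀ = ξ.left :=
    Scheme.descResidueField_stalkClosedPointTo_fromSpecResidueField Ω X.left ξ.left
  have hφκ : Spec.map (CommRingCat.ofHom φκ) = X.left.fromSpecResidueField x₀ ≫ X.hom := Spec.map_preimage _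
  have hgamk : gam'.comp φκ = algebraMap k Ω := by
    have : CommRingCat.ofHom φκ ≫ CommRingCat.ofHom gam' = CommRingCat.ofHom (algebraMap k Ω) := by
      apply Spec.map_injective
      rw [Spec.map_comp, hφκ, ← Category.assoc, hgam']
      exact Over.w ξ
    exact congrArg CommRingCat.Hom.hom this
  let gam : κ →ₐ[k] Ω := { gam' with commutes' := fun r => RingHom.congr_fun hgamk r }
  let F₂ := gam.fieldRange
  obtain ⟨A, hF₁A, hF₂A, hAcl, hAσ, hAtr⟩ := exists_closure F₁ F₂
  have hKbA : Kb ≤ A := fun y hy => hAcl y (by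
    have h := mem_algebraicClosure_iff.1 hy
    exact h.ringHom_of_comp_eq (IntermediateField.inclusion hF₁A).toRingHom (RingHom.id Ω)
      (IntermediateField.inclusion hF₁A).toRingHom.injective rfl)
  let jA : Kb →ₐ[k] A := IntermediateField.inclusion hKbA
  let p₀A : SGA7.pt (K := k) A ⟶ P₀ := resPt jA ≫ p₀
  let gamA : κ →ₐ[k] A := corestr gam A fun z => hF₂A ⟨z, rfl⟩
  let ξA : SGA7.pt (K := k) A ⟶ X :=
    Over.homMk (Spec.map (CommRingCat.ofHom (gamA : κ →+* A)) ≫ X.left.fromSpecResidueField x₀) (by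
      show (Spec.map _ ≫ _) ≫ X.hom = Spec.map _
      rw [Category.assoc, ← hφκ, ← Spec.map_comp]
      congr 1
      exact CommRingCat.hom_ext gamA.comp_algebraMap)
  have hξA : resPt A.val ≫ ξA = ξ := by
    refine Over.OverMorphism.ext ?_
    show Spec.map _ ≫ Spec.map _ ≫ _ = _
    rw [← Category.assoc, ← Spec.map_comp, ← hgam']
    congr 2
  let pA₀ : G ⊗ SGA7.pt (K := k) A ⟶ P₀ := (G ◁ p₀A) ≫ act₀.act
  have cartA₀ : IsPullback pA₀ (snd G _) π₀ (p₀A ≫ π₀) := (AlgSt.isPullback_whiskerLeft p₀A).paste_horiz cart₀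
  let fA : G ⊗ SGA7.pt (K := k) A ⟶ X := (G ◁ ξA) ≫ aX.act
  -- agreement over `Ω`
  have hp₀A : resPt A.val ≫ p₀A = pΩ ≫ top := by
    rw [IsPullback.lift_fst]
    show resPt A.val ≫ resPt jA ≫ p₀ = _
    rw [← Category.assoc, ← resPt_comp]
    rfl
  have agree : ∀ {Z : Over (Spec (CommRingCat.of k))} (zL : Z ⟶ PD) (zA : Z ⟶ G ⊗ SGA7.pt (K := k) A)
      (ω : Z ⟶ SGA7.pt (K := k) Ω), zL ≫ πD = ω ≫ resPt ιL → zA ≫ snd _ _ = ω ≫ resPt A.val →
      zL ≫ top = zA ≫ pA₀ → zL ≫ φD = zA ≫ fA := by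
    intro Z zL zA ω h₁ h₂ h₃
    have hzA : zA = lift (zA ≫ fst _ _) (ω ≫ resPt A.val) :=
      CartesianMonoidalCategory.hom_ext _ _ (by simp) (by simp [h₂])
    let zL' := lift (zA ≫ fst _ _) (ω ≫ pΩ) ≫ actD.act
    have hzL : zL' = zL := by
      apply cartTop.hom_ext
      · rw [Category.assoc, eqvTop, ← Category.assoc, QuotStLib.lift_whisker, Category.assoc, ← hp₀A, h₃]
        conv_rhs => rw [hzA]
        simp only [pA₀]
        rw [← Category.assoc (lift (zA ≫ fst G _) (ω ≫ resPt A.val)), QuotStLib.lift_whisker, Category.assoc ω]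
      · rw [Category.assoc, cartD.w, ← Category.assoc, lift_snd, Category.assoc, IsPullback.lift_snd, h₁]
    rw [← hzL, Category.assoc, eqvD, ← Category.assoc, QuotStLib.lift_whisker, Category.assoc,
      show pΩ ≫ φD = ξ from rfl, ← hξA]
    conv_rhs => rw [hzA]
    simp only [fA]
    rw [← Category.assoc (lift _ (ω ≫ resPt A.val)), QuotStLib.lift_whisker, Category.assoc]
  -- stability under the automorphisms over `L`
  have hA : ∀ σ : Ω ≃ₐ[L] Ω, ∀ a ∈ A, σ a ∈ A := by
    intro σ
    let σk : Ω →ₐ[k] Ω := σ.toAlgHom.restrictScalars k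
    have hfix : ∀ y ∈ F₁, σ y = y := by
      rintro _ ⟨y, -, rfl⟩
      exact σ.commutes y
    have hKbσ : ∀ y : Kb, σk.comp Kb.val y ∈ Kb := fun y => by
      refine mem_algebraicClosure_iff.2 ((mem_algebraicClosure_iff.1 y.2).ringHom_of_comp_eq (RingHom.id F₁)
        (σ : Ω →+* Ω) Function.injective_id ?_)
      exact RingHom.ext fun z => (hfix z.1 z.2).symm
    let σA : Kb →ₐ[k] A := corestr (σk.comp Kb.val) A fun y => hKbA (hKbσ y)
    let zA' : SGA7.pt (K := k) A ⟶ G ⊗ SGA7.pt (K := k) A := cartA₀.lift (resPt σA ≫ p₀) (𝟙 _) (by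
      rw [Category.assoc, hp₀, Category.id_comp, show p₀A ≫ π₀ = resPt jA ≫ resPt jK from by
        simp only [p₀A]; rw [Category.assoc, hp₀], ← resPt_comp, ← resPt_comp]
      congr 1
      exact AlgHom.ext fun y => Subtype.ext (hfix _ (hKF₁ y)))
    have h := agree (resPt σk ≫ pΩ) (resPt A.val ≫ zA') (𝟙 _)
      (by
        rw [Category.assoc, IsPullback.lift_snd, Category.id_comp, ← resPt_comp]
        congr 1
        exact AlgHom.ext fun y => σ.commutes y)
      (by rw [Category.assoc, IsPullback.lift_snd, Category.id_comp, Category.comp_id])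
      (by
        rw [Category.assoc, IsPullback.lift_fst, Category.assoc, IsPullback.lift_fst, ← Category.assoc (resPt σk),
          ← Category.assoc (resPt A.val), ← resPt_comp, ← resPt_comp, val_comp_corestr])
    let w := zA' ≫ fA
    have hw : Spec.map (CommRingCat.ofHom ((σk.comp gam : κ →ₐ[k] Ω) : κ →+* Ω)) ≫ X.left.fromSpecResidueField x₀ =
        Spec.map (CommRingCat.ofHom (A.val : A →+* Ω) ) ≫ w.left := by
      have h' := congrArg Over.Hom.left h
      simp only [Category.assoc, Over.comp_left] at h'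
      rw [show CommRingCat.ofHom ((σk.comp gam : κ →ₐ[k] Ω) : κ →+* Ω) =
        CommRingCat.ofHom gam' ≫ CommRingCat.ofHom (σk : Ω →+* Ω) from rfl, Spec.map_comp, Category.assoc, hgam']
      simp only [ξ, w, Over.comp_left]
      exact h'
    let δ := X.left.descResidueField (Scheme.stalkClosedPointTo w.left)
    have hδ : Spec.map δ ≫ X.left.fromSpecResidueField _ = w.left :=
      Scheme.descResidueField_stalkClosedPointTo_fromSpecResidueField A X.left w.left
    rw [← hδ, ← Category.assoc, ← Spec.map_comp] at hw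
    have heq := (Scheme.SpecToEquivOfField Ω X.left).symm.injective
      (a₁ := ⟨x₀, CommRingCat.ofHom ((σk.comp gam : κ →ₐ[k] Ω) : κ →+* Ω)⟩)
      (a₂ := ⟨_, δ ≫ CommRingCat.ofHom (A.val : A →+* Ω)⟩) hw
    obtain ⟨e, he⟩ := Scheme.SpecToEquivOfField_eq_iff.1 heq
    refine hAσ (σ.restrictScalars k) (fun y hy => ?_) ?_
    · exact (hfix y hy).symm ▸ hF₁A hy
    · rintro _ ⟨z, rfl⟩
      have := congrArg (fun f => f.hom z) he
      exact (this : σ (gam z) = _) ▸ (δ.hom ((X.left.residueFieldCongr e).hom.hom z)).2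
  -- the field of definition
  let M : IntermediateField k L := A.comap ιL
  have hM : ∀ l, l ∈ M ↔ algebraMap L Ω l ∈ A := fun _ => Iff.rfl
  let jM : M →ₐ[k] A := corestr (ιL.comp M.val) A fun m => (hM _).1 m.2
  letI : Algebra M A := jM.toRingHom.toAlgebra
  haveI : IsScalarTower M A Ω := IsScalarTower.of_algebraMap_eq fun m => rfl
  have hmp := fun a => minpoly_eq A M hM (fun m => rfl) hA a
  haveI : Algebra.IsAlgebraic M A := ⟨fun a => (hmp a).1⟩
  have hKM : K ≤ M := fun y hy => (hM y).2 (hF₁A ⟨y, hy, rfl⟩)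
  refine ⟨M, ?_, ?_⟩
  · have h1 : Algebra.trdeg k M ≤ Algebra.trdeg k A := trdeg_le_of_injective jM jM.toRingHom.injective
    have h2 : Algebra.trdeg k F₁ = Algebra.trdeg k K := (K.equivMap ιL).trdeg_eq.symm
    have h3 : Algebra.trdeg k F₂ = Dual3.resTrdeg X.hom x₀ := by
      refine (AlgEquiv.ofInjectiveField gam).trdeg_eq.symm.trans ?_
      let z : ↥(Spec κ) := IsLocalRing.closedPoint _
      have hz : X.left.fromSpecResidueField x₀ z = x₀ := X.left.fromSpecResidueField_apply x₀ z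
      have h4 := EdFibLib.resTrdeg_spec φκ z
      rw [hφκ, AlgSpLib.resTrdeg_comp, CycPushLib.trdeg_preimmersion_left (X.left.fromSpecResidueField x₀),
        add_zero] at h4
      rw [← hz]
      exact h4.symm
    rw [h2, h3] at hAtr
    have h5 : Cardinal.toENat (Algebra.trdeg k M) ≤
        Cardinal.toENat (Algebra.trdeg k K) + Cardinal.toENat (Dual3.resTrdeg X.hom x₀) :=
      (Cardinal.toENat.monotone' (h1.trans hAtr)).trans_eq
        (show Cardinal.toENat (_ + _) = _ from map_add _ _ _)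
    refine le_trans (WithBot.coe_le_coe.2 h5) ?_
    rw [WithBot.coe_add]
    exact add_le_add le_rfl (toENat_resTrdeg_le_dim X.hom x₀)
  · let jKM : K →ₐ[k] M := IntermediateField.inclusion hKM
    obtain ⟨⟨bM, PM, actM, πM, cartM, locM, φM, eqvM⟩, hB, eM, hBb⟩ := exists_pull B₀ (resPt jKM)
    obtain rfl : bM = SGA7.pt (K := k) M := eM
    rw [eqToHom_refl, Category.id_comp] at hBb
    have cartB : IsPullback hB.top πM π₀ (resPt jKM) := hBb ▸ hB.cart
    have eqvB : actM.act ≫ hB.top = (G ◁ hB.top) ≫ act₀.act := hB.eqv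
    have hKMv : resPt K.val = resPt M.val ≫ resPt jKM := by rw [← resPt_comp]; rfl
    let tL : PD ⟶ PM := cartB.lift top (πD ≫ resPt M.val) (by rw [cartTop.w, hKMv, Category.assoc])
    have sqL : IsPullback tL πD πM (resPt M.val) :=
      IsPullback.of_right (by rw [IsPullback.lift_fst, ← hKMv]; exact cartTop) (IsPullback.lift_snd _ _ _ _) cartB
    have hrA : p₀A ≫ π₀ = resPt jM ≫ resPt jKM := by
      rw [← resPt_comp, show p₀A ≫ π₀ = resPt jA ≫ p₀ ≫ π₀ from Category.assoc _ _ _, hp₀, ← resPt_comp]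
      rfl
    let tA : G ⊗ SGA7.pt (K := k) A ⟶ PM := cartB.lift pA₀ (snd G _ ≫ resPt jM) (by
      rw [cartA₀.w, hrA, Category.assoc])
    have sqA : IsPullback tA (snd G _) πM (resPt jM) :=
      IsPullback.of_right (by rw [IsPullback.lift_fst, ← hrA]; exact cartA₀) (IsPullback.lift_snd _ _ _ _) cartB
    have hagree : ∀ {Z : Scheme.{u}} (zL : Z ⟶ PD.left) (zA : Z ⟶ (G ⊗ SGA7.pt (K := k) A).left)
        (ω : Z ⟶ Spec (CommRingCat.of Ω)), zL ≫ πD.left = ω ≫ spMap L Ω →
        zA ≫ (snd G (SGA7.pt (K := k) A)).left = ω ≫ spMap A Ω → zL ≫ tL.left = zA ≫ tA.left →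
        zL ≫ φD.left = zA ≫ fA.left := by
      intro Z zL zA ω h₁ h₂ h₃
      let Z' : Over (Spec (CommRingCat.of k)) := Over.mk (ω ≫ (SGA7.pt (K := k) Ω).hom)
      have eL : (resPt ιL).left = spMap L Ω := rfl
      let zL' : Z' ⟶ PD := Over.homMk zL (by
        rw [← Over.w πD, ← Category.assoc, h₁, ← eL, Category.assoc]
        exact congrArg (ω ≫ ·) (Over.w (resPt ιL)))
      let zA' : Z' ⟶ G ⊗ SGA7.pt (K := k) A := Over.homMk zA (by
        rw [← Over.w (snd G (SGA7.pt (K := k) A)), ← Category.assoc, h₂,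
          show spMap A Ω = (resPt A.val).left from rfl, Category.assoc]
        exact congrArg (ω ≫ ·) (Over.w (resPt A.val)))
      let ω' : Z' ⟶ SGA7.pt (K := k) Ω := Over.homMk ω rfl
      have h3' : zL' ≫ tL = zA' ≫ tA := Over.OverMorphism.ext h₃
      have h := agree zL' zA' ω' (Over.OverMorphism.ext h₁) (Over.OverMorphism.ext h₂) (by
        have := congrArg (· ≫ hB.top) h3'
        simpa only [Category.assoc, IsPullback.lift_fst, tL, tA] using this)
      exact congrArg Over.Hom.left h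
    obtain ⟨f₀, hf₀⟩ := exists_descent_hom (M := M) (L := L) (A := A) (Ω := Ω) (fun a => (hmp a).2)
      (fun l a hla => ⟨⟨l, (hM l).2 (hla ▸ a.2)⟩, rfl⟩)
      (show IsPullback tL.left πD.left πM.left (spMap M L) from sqL.map (Over.forget _))
      (show IsPullback tA.left (snd G (SGA7.pt (K := k) A)).left πM.left (spMap M A) from sqA.map (Over.forget _))
      (fL := φD.left) (fA := fA.left) hagree
    haveI : Flat tL.left :=
      MorphismProperty.of_isPullback (P := @Flat) (show IsPullback πD.left tL.left (spMap M L) πM.left from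
        (sqL.map (Over.forget _)).flip) inferInstance
    haveI : Surjective tL.left :=
      MorphismProperty.of_isPullback (P := @Surjective) (show IsPullback πD.left tL.left (spMap M L) πM.left from
        (sqL.map (Over.forget _)).flip) inferInstance
    haveI := Flat.epi_of_flat_of_surjective tL.left
    let φ' : PM ⟶ X := Over.homMk f₀ (by
      rw [← cancel_epi tL.left, ← Category.assoc, hf₀, Over.w φD, Over.w tL])
    have hφ' : tL ≫ φ' = φD := Over.OverMorphism.ext hf₀
    have eqvL : actD.act ≫ tL = (G ◁ tL) ≫ actM.act := by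
      apply cartB.hom_ext
      · rw [Category.assoc, Category.assoc, IsPullback.lift_fst, eqvTop, eqvB, ← Category.assoc,
          ← MonoidalCategory.whiskerLeft_comp, IsPullback.lift_fst]
      · rw [Category.assoc, Category.assoc, IsPullback.lift_snd, cartM.w, ← Category.assoc, cartD.w,
          ← Category.assoc (G ◁ tL), whiskerLeft_snd, Category.assoc, Category.assoc, IsPullback.lift_snd]
    have sqG := (AlgSt.isPullback_whiskerLeft (G := G) tL).map (Over.forget _)
    haveI : Flat (G ◁ tL).left := MorphismProperty.of_isPullback (P := @Flat) sqG.flip ‹Flat tL.left›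
    haveI : Surjective (G ◁ tL).left :=
      MorphismProperty.of_isPullback (P := @Surjective) sqG.flip ‹Surjective tL.left›
    haveI := Flat.epi_of_flat_of_surjective (G ◁ tL).left
    have eqv' : actM.act ≫ φ' = (G ◁ φ') ≫ aX.act := by
      have h : (G ◁ tL) ≫ actM.act ≫ φ' = (G ◁ tL) ≫ (G ◁ φ') ≫ aX.act := by
        rw [← Category.assoc, ← eqvL, Category.assoc, hφ', eqvD, ← Category.assoc,
          ← MonoidalCategory.whiskerLeft_comp, hφ']
      refine Over.OverMorphism.ext ((cancel_epi (G ◁ tL).left).1 ?_)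
      exact congrArg Over.Hom.left h
    let Y : AlgSt.QuotObj Scheme.fppfPrecoverage G aX :=
      ⟨SGA7.pt (K := k) M, PM, actM, πM, cartM, locM, φ', eqv'⟩
    let m : (⟨SGA7.pt (K := k) L, PD, actD, πD, cartD, locD, φD, eqvD⟩ :
        AlgSt.QuotObj Scheme.fppfPrecoverage G aX) ⟶ Y := ⟨resPt M.val, tL, eqvL, sqL, hφ'⟩
    refine (descends_isoCl_iff (AlgSt.QuotSt Scheme.fppfPrecoverage G aX) _ M).2 ⟨⟨Y, rfl⟩, m, ?_⟩
    exact IsHomLift.map (AlgSt.QuotSt Scheme.fppfPrecoverage G aX).p m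

end EdQuotLib
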